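import Groth.Agent.ContractLib.Constant
import Groth.Agent.ProjKLib.Reg

/-!
# Constant morphisms on connected proper schemes
-/

set_option autoImplicit false
set_option linter.style.haveILetI false
set_option backward.isDefEq.respectTransparency false
set_option maxHeartbeats 800000
universe u

open CategoryTheory CategoryTheory.Limits AlgebraicGeometry TopologicalSpace Opposite
open AmpleLib AmpleThLib AmpleDevLib
open TwistLib (genSet)
open KFlatLib (pb puSec)
open CubeConsLib (pull pull_cl cl cl_eq_iff cl_eq_one_iff pull_eq_one_of_factor)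

noncomputable section

namespace ConnConstLib

variable {Z Y : Scheme.{u}}

/-- A global section with `b^(n+1) c = b^n` has clopen nonvanishing locus. -/
theorem isClopen_basicOpen (b c : Γ(Z, ⊤)) (n : ℕ) (hc : b ^ (n + 1) * c = b ^ n) :
    IsClopen (Z.basicOpen b : Set Z) := by
  have hu : IsCompl (Z.basicOpen b : Set Z) {x | x ∈ Z.basicOpen (1 - b * c)} := by
    constructor
    · rw [Set.disjoint_left]
      intro x hx hx'
      have h1 : b ^ n * (1 - b * c) = 0 := by rw [mul_sub, mul_one, ← mul_assoc, ← pow_succ, hc, sub_self]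
      have h2 : x ∈ Z.basicOpen (b ^ n * (1 - b * c)) := by
        rw [Scheme.basicOpen_mul]
        exact ⟨(Z.mem_basicOpen_top _ x).mpr (by
          rw [map_pow]; exact ((Z.mem_basicOpen_top _ x).mp hx).pow n), hx'⟩
      rw [h1, Scheme.basicOpen_zero] at h2
      exact h2
    · rw [codisjoint_iff, Set.top_eq_univ, Set.eq_univ_iff_forall]
      intro x
      rcases IsLocalRing.isUnit_or_isUnit_of_add_one
        (a := Z.presheaf.germ ⊤ x trivial (b * c)) (b := 1 - Z.presheaf.germ ⊤ x trivial (b * c)) (by ring) with h | h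
      · refine Or.inl ((Z.mem_basicOpen_top b x).mpr ?_)
        rw [map_mul] at h
        exact isUnit_of_mul_isUnit_left h
      · refine Or.inr ((Z.mem_basicOpen_top (1 - b * c) x).mpr ?_)
        rw [map_sub, map_one]
        exact h
  refine ⟨?_, (Z.basicOpen b).isOpen⟩
  rw [← compl_compl (Z.basicOpen b : Set Z), hu.compl_eq]
  exact (Z.basicOpen (1 - b * c)).isOpen.isClosed_compl

/-- Over a field a global section of a proper scheme has clopen nonvanishing locus. -/
theorem isClopen_basicOpen_of_universallyClosed {K : Type u} [Field K] (q : Z ⟶ Spec (CommRingCat.of K))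
    [UniversallyClosed q] (b : Γ(Z, ⊤)) : IsClopen (Z.basicOpen b : Set Z) := by
  let F := (Scheme.ΓSpecIso (CommRingCat.of K)).inv ≫ q.appTop
  have hF : F.hom.IsIntegral := by
    apply RingHom.isIntegral_respectsIso.2 (e := (Scheme.ΓSpecIso _).symm.commRingCatIsoToRingEquiv)
    exact isIntegral_appTop_of_universallyClosed q
  letI : Algebra K Γ(Z, ⊤) := F.hom.toAlgebra
  let A := Algebra.adjoin K ({b} : Set Γ(Z, ⊤))
  haveI : Module.Finite K A := Module.Finite.iff_fg.mpr (IsIntegral.fg_adjoin_singleton (show IsIntegral K b from hF b))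
  haveI : IsArtinianRing A := IsArtinianRing.of_finite K A
  obtain ⟨n, c, hc⟩ := IsArtinian.exists_pow_succ_smul_dvd (⟨b, Algebra.self_mem_adjoin_singleton K b⟩ : A) (1 : A)
  simp only [Nat.succ_eq_add_one, smul_eq_mul, mul_one] at hc
  exact isClopen_basicOpen b c.1 n (by simpa using congrArg Subtype.val hc)

/-- A connected scheme proper over a field on which an ample module becomes trivial goes to a point. -/
theorem range_subsingleton_of_trivial {K : Type u} [Field K] [ConnectedSpace Z]
    (q : Z ⟶ Spec (CommRingCat.of K)) [UniversallyClosed q] (g : Z ⟶ Y) {A : Y.Modules} (hA : CohB1.IsAmple A)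
    [QuasiSeparatedSpace Y] (h : Nonempty ((Scheme.Modules.pullback g).obj A ≅ Coh.structureModule Z)) :
    ∀ z w : Z, g w = g z := by
  haveI : CompactSpace Y := hA.2.1
  have hAi : PicF.IsInvertible A := hA.1
  have key : ∀ (z w : Z) (W : Y.Opens), g w ∈ W → g z ∈ W := by
    intro z w W hwW
    obtain ⟨_, ⟨n, s, rfl⟩, hw, hsub⟩ :=
      (AmpleThLib.isAmple_iff_isTopologicalBasis hA.1 hA).exists_subset_of_mem_open
        (show g w ∈ (W : Set Y) from hwW) W.isOpen
    have hpow := tensorPow_isInvertible hAi (n + 1)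
    rw [genLocus_hom hpow] at hw hsub
    set σ := s.app ⊤ (1 : Γ(Y, ⊤))
    obtain ⟨φ, -⟩ := exists_pullPowIso g hAi (n + 1)
    obtain ⟨ψ⟩ : Nonempty (pb g (CohB1.tensorPow A (n + 1)) ≅ Coh.structureModule Z) := by
      refine cl_eq_iff.1 ?_
      have h1 : cl (CohB1.tensorPow (pb g A) (n + 1)) = 1 := by
        rw [VertIntLib.cl_tensorPow, cl_eq_one_iff.2 h, one_pow]
      exact (cl_eq_iff.2 ⟨φ⟩).trans (h1.trans (cl_eq_one_iff.2 ⟨Iso.refl _⟩).symm)
    set τ : Γ(Coh.structureModule Z, ⊤) := ψ.hom.app ⊤ (puSec g σ : Γ(pb g (CohB1.tensorPow A (n + 1)), ⊤))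
    have hset : genSet CurvLib.isInvertible_structureModule τ = g ⁻¹ᵁ genSet hpow σ :=
      (genSet_iso (isInvertible_pb g hpow) _ ψ _).trans (genSet_puSec g hpow σ)
    have hb : genSet CurvLib.isInvertible_structureModule τ ⊓ ⊤ = Z.basicOpen (show Γ(Z, ⊤) from τ) := by
      refine mem_genSet_coeff _ τ (AmpleLib.one_genOn ⊤) ?_
      rw [AmpleLib.res_refl]
      exact mul_one (show Γ(Z, ⊤) from τ)
    rw [inf_top_eq, hset] at hb
    rcases isClopen_iff.mp (isClopen_basicOpen_of_universallyClosed q (show Γ(Z, ⊤) from τ)) with h0 | h0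
    · have : w ∈ (Z.basicOpen (show Γ(Z, ⊤) from τ) : Set Z) := hb.le hw
      rw [h0] at this
      exact this.elim
    · have : z ∈ g ⁻¹ᵁ genSet hpow σ := hb.ge (show z ∈ (Z.basicOpen (show Γ(Z, ⊤) from τ) : Set Z) by
        rw [h0]; trivial)
      exact hsub this
  intro z w
  refine Inseparable.eq (inseparable_iff_forall_isOpen.mpr fun W hW => ⟨?_, ?_⟩)
  · exact key z w ⟨W, hW⟩
  · exact key w z ⟨W, hW⟩

/-- A module pulled back along a constant morphism is trivial. -/
theorem pull_trivial_of_const (g : Z ⟶ Y) {c : Y} (hg : ∀ z, g z = c) {A : Y.Modules} (hA : PicF.IsInvertible A) :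
    Nonempty ((Scheme.Modules.pullback g).obj A ≅ Coh.structureModule Z) := by
  obtain ⟨U, e, hc, he⟩ := TwistLib.exists_genOn hA c
  have hle : (⊤ : Z.Opens) ≤ g ⁻¹ᵁ U := fun z _ => by
    show g z ∈ U
    rw [hg z]; exact hc
  have h : GenOn (pb g A) (res (pb g A) hle (puSec g e)) := (puSec_genOn g he).res _
  haveI := AmpleLib.isIso_unitHom _ h
  exact ⟨(asIso (QCohLib.unitHom (pb g A) (res (pb g A) hle (puSec g e)))).symm⟩

end ConnConstLib

end
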